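import Groth.Agent.Omega.SmoothFibreDim
import Groth.Agent.AlgSpD.EtaleTop
import Groth.Agent.GrpScheme.Dimension
import Groth.Agent.GrpScheme.FibreFlat
import Groth.Agent.GrpScheme.HomFlat
import Groth.Agent.S0354
import Groth.Agent.RegLoc.Basic

/-!
# Dimensions of group schemes over fields and of fibres along sections
-/

set_option autoImplicit false
set_option backward.isDefEq.respectTransparency.types false
set_option linter.style.haveILetI false

universe u

open CategoryTheory CategoryTheory.Limits MonoidalCategory CartesianMonoidalCategory MonObj AlgebraicGeometry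
  TopologicalSpace Order

namespace Groth.Agent.NeronFlat

/-- Fibre dimensions of a smooth morphism are locally constant. -/
theorem isLocallyConstant_fibreDimAt {X Y : Scheme.{u}} (f : X ⟶ Y) [Smooth f] :
    IsLocallyConstant (fun x : X => FlatMor.fibreDimAt f x) := by
  rw [IsLocallyConstant.iff_exists_open]
  intro x
  obtain ⟨U, hU, V, hV, hx, e, hf⟩ := Smooth.exists_isStandardSmooth (f := f) x
  letI := (f.appLE U V e).hom.toAlgebra
  haveI : Algebra.IsStandardSmooth Γ(Y, U) Γ(X, V) := hf
  have key : ∀ y ∈ V, FlatMor.fibreDimAt f y =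
      ((Module.finrank Γ(X, V) Ω[Γ(X, V)⁄Γ(Y, U)] : ℕ) : WithBot ℕ∞) := by
    intro y hy
    obtain ⟨Q, hQ⟩ := Omega.SmoothFibreDim.exists_pt hV hy
    haveI : Nontrivial Γ(X, V) := Q.nontrivial
    have hs : Spec.map (f.appLE U V e) = Spec.map (CommRingCat.ofHom (algebraMap Γ(Y, U) Γ(X, V))) := rfl
    rw [← hQ, ← Omega.SmoothFibreDim.fibreDimAt_appLE f hU hV e Q, hs,
      Omega.SmoothFibreDim.fibreDimAt_spec Γ(Y, U) Γ(X, V) Q, Module.rankAtStalk_eq_finrank_of_free]
    rfl
  exact ⟨V, V.isOpen, hx, fun y hy => (key y hy).trans (key x hx).symm⟩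

section Field

variable {K : Type u} [Field K] (G : Over (Spec (CommRingCat.of K))) [GrpObj G] [LocallyOfFiniteType G.hom]

/-- A group scheme has the same local dimension everywhere. -/
theorem localDim_eq (x : G.left) : FlatMor.localDim G.left x = topologicalKrullDim G.left := by
  refine le_antisymm (iInf_le_of_le ⟨⊤, trivial⟩ ?_) (le_iInf fun U => ?_)
  · exact Topology.IsInducing.subtypeVal.topologicalKrullDim_le
  · have := LocallyOfFiniteType.jacobsonSpace G.hom
    obtain ⟨c, hcU, hc⟩ := nonempty_inter_closedPoints (Z := (U.1 : Set G.left)) ⟨x, U.2⟩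
      U.1.isOpen.isLocallyClosed
    rw [← GrpScheme.Dimension.coheight_eq_topologicalKrullDim G c hc]
    let V : G.left.Opens := U.1
    let c' : (V : Scheme.{u}) := ⟨c, hcU⟩
    have h1 : coheight c' = coheight c :=
      (coheight_eq_of_isOpenImmersion V.ι (x := c')).symm
    rw [← h1]
    refine le_trans (coheight_le_krullDim c') (le_of_eq ?_)
    exact (Order.krullDim_eq_of_orderIso (irreducibleSetEquivPoints (α := (V : Scheme.{u})))).symm

/-- The identity point. -/
noncomputable def idPt : G.left := η[G].left (IsLocalRing.closedPoint K)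

theorem isClosed_idPt : IsClosed ({idPt G} : Set G.left) := by
  have := LocallyOfFiniteType.jacobsonSpace G.hom
  haveI : LocallyOfFiniteType (η[G].left ≫ G.hom) := by
    rw [Over.w η[G]]
    exact inferInstanceAs (LocallyOfFiniteType (𝟙 _))
  haveI := locallyOfFiniteType_of_comp η[G].left G.hom
  exact η[G].left.closePoints_subset_preimage_closedPoints (IsLocalRing.isClosed_singleton_closedPoint K)

theorem exists_dim : ∃ n : ℕ, (coheight (idPt G) : ℕ∞) = n ∧ topologicalKrullDim G.left = ((n : ℕ∞) : WithBot ℕ∞) := by
  have := LocallyOfFiniteType.isLocallyNoetherian G.hom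
  have h := GrpScheme.Dimension.coheight_eq_topologicalKrullDim G (idPt G) (isClosed_idPt G)
  obtain ⟨n, hn, -⟩ := RegLoc.exists_natCast_eq_ringKrullDim (G.left.presheaf.stalk (idPt G))
  rw [S0354.result K G (idPt G) (isClosed_idPt G)] at hn
  refine ⟨n, ?_, by rw [hn]; rfl⟩
  have h2 := h.trans hn
  exact_mod_cast h2

variable {G} {H : Over (Spec (CommRingCat.of K))} [GrpObj H] [LocallyOfFiniteType H.hom] (f : G ⟶ H)

omit [GrpObj H] in
theorem isClosed_apply_idPt : IsClosed ({f.left (idPt G)} : Set H.left) := by
  have := LocallyOfFiniteType.jacobsonSpace H.hom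
  have := LocallyOfFiniteType.jacobsonSpace G.hom
  haveI : LocallyOfFiniteType (f.left ≫ H.hom) := by rw [Over.w f]; infer_instance
  haveI := locallyOfFiniteType_of_comp f.left H.hom
  exact f.left.closePoints_subset_preimage_closedPoints (isClosed_idPt G)

/-- A flat quasi-finite morphism of group schemes over a field preserves the dimension. -/
theorem topologicalKrullDim_eq [Flat f.left] [LocallyQuasiFinite f.left] :
    topologicalKrullDim G.left = topologicalKrullDim H.left := by
  rw [← GrpScheme.Dimension.coheight_eq_topologicalKrullDim G _ (isClosed_idPt G),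
    ← GrpScheme.Dimension.coheight_eq_topologicalKrullDim H _ (isClosed_apply_idPt f),
    AlgSpD.coheight_apply_eq f.left]

/-- A quasi-finite homomorphism of group schemes of the same dimension, with reduced target, is flat. -/
theorem flat_of_topologicalKrullDim_eq [IsMonHom f] [LocallyQuasiFinite f.left] [IsReduced H.left]
    (h : topologicalKrullDim G.left = topologicalKrullDim H.left) : Flat f.left := by
  obtain ⟨n, hn, hG⟩ := exists_dim G
  have hH := GrpScheme.Dimension.coheight_eq_topologicalKrullDim H _ (isClosed_apply_idPt f)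
  rw [← h, hG, WithBot.coe_inj] at hH
  obtain ⟨p, hp, hlen⟩ := exists_series_of_le_coheight (idPt G) hn.ge
  refine GrpScheme.HomFlat.flat_of_isMaxGen f (z := p.last) fun w hw => ?_
  by_contra hne
  let q : LTSeries H.left := p.map f.left (AlgSpD.strictMono_of_locallyQuasiFinite f.left)
  have hlast : q.last = f.left p.last := LTSeries.last_map _ _ _
  have hlt : q.last < w := by
    rw [hlast]
    exact lt_iff_le_not_ge.2 ⟨hw, fun h' => hne ((hw : w ⤳ f.left p.last).antisymm h').eq⟩
  have hhead : (q.snoc w hlt).head = f.left (idPt G) := by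
    rw [RelSeries.head_snoc, LTSeries.head_map, hp]
  have h1 := length_le_coheight (p := q.snoc w hlt) hhead.ge
  rw [hH] at h1
  simp only [RelSeries.snoc_length] at h1
  have : q.length = n := hlen
  rw [this] at h1
  norm_cast at h1
  omega

end Field

end Groth.Agent.NeronFlat
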